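import Groth.Agent.S15827
import Groth.Agent.Krr.H495.Rank
import Groth.Agent.Krr.H482.PullFinal
import Groth.Agent.Sga67.TensorOps
import Groth.Agent.ArSurf.K482.DetSes
import Groth.Agent.Grpsch.PicGrp
import Groth.Agent.Ega2.QCohLocal

/-!
# Determinants: existence, twists, extensions of invertible modules, in the Picard group
-/

set_option autoImplicit false
set_option linter.unusedSectionVars false
universe u
open CategoryTheory CategoryTheory.Limits AlgebraicGeometry

namespace K703.Det2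

open Groth.Agent Groth.Agent.Grpsch Groth.Agent.Grpsch.PicGrp

variable {X : Scheme.{u}}

theorem inv_iff {L : X.Modules} : FlatMod.IsFinLocFreeOfRank 1 L ↔ PicF.IsInvertible L :=
  Groth.Agent.Ega2.QCohLocal.isFinLocFreeOfRank_one_iff

theorem inv_det {r : ℕ} {E D : X.Modules} (hE : FlatMod.IsFinLocFreeOfRank r E) (hD : ExtPow.IsExtPow r E D) :
    PicF.IsInvertible D := by
  have := Krr.H495.Rank.rank_extPow hE hD
  rw [Nat.choose_self] at this
  exact inv_iff.1 this

theorem exists_det {r : ℕ} {E : X.Modules} (hE : FlatMod.IsFinLocFreeOfRank r E) :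
    ∃ D : X.Modules, ExtPow.IsExtPow r E D ∧ PicF.IsInvertible D := by
  obtain ⟨D, hD⟩ := Krr.H482.PullFinal.exists_isExtPow' X r E (Krr.H495.Rank.isFinLocFree_of_rank hE)
  exact ⟨D, hD, inv_det hE hD⟩

theorem det_congr {r : ℕ} {E E' D D' : X.Modules} (e : E ≅ E') (hD : ExtPow.IsExtPow r E D)
    (hD' : ExtPow.IsExtPow r E' D') : Nonempty (D ≅ D') :=
  Sga67.TensorOps.nonempty_iso_of_isExtPow e hD hD'

/-- `det(E ⊗ N) = det E ⊗ N^r` -/
theorem det_twist {r : ℕ} {E N D D' : X.Modules} (hE : FlatMod.IsFinLocFree E) (hN : PicF.IsInvertible N)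
    (hD : ExtPow.IsExtPow r E D) (hD' : ExtPow.IsExtPow r (CohB1.tensorMod E N) D')
    (h : PicF.IsInvertible D) (h' : PicF.IsInvertible D') : mk D' h' = mk D h * mk N hN ^ r := by
  obtain ⟨e⟩ := Groth.Agent.S15827.result E N hE (inv_iff.2 hN) r D' D hD' hD
  rw [← mk_tensorPow hN, mk_mul_mk]
  exact mk_congr e

/-- the determinant of an extension of invertible modules -/
theorem det_ext {S : ShortComplex X.Modules} (hS : S.ShortExact) (h₁ : PicF.IsInvertible S.X₁)
    (h₃ : PicF.IsInvertible S.X₃) {D : X.Modules} (hD : ExtPow.IsExtPow 2 S.X₂ D) (h : PicF.IsInvertible D) :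
    mk D h = mk S.X₁ h₁ * mk S.X₃ h₃ := by
  obtain ⟨e⟩ := K482.DetSes.det_ses hS (a := 1) (b := 1) (inv_iff.2 h₁) (inv_iff.2 h₃)
    (Sga67.TensorOps.isExtPow_one S.X₁) hD (Sga67.TensorOps.isExtPow_one S.X₃)
  rw [mk_mul_mk]
  exact mk_congr e.symm

end K703.Det2
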