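import Groth.Agent.CycB.CohProp
import Groth.Agent.PerfA.CohSerre
import Groth.Agent.S1521
import Groth.Agent.S1524
import Groth.Agent.VarietyA.CurveFin

/-!
# Degrees in short exact sequences; maps of invertible modules on a curve
-/

set_option autoImplicit false
universe u
open CategoryTheory CategoryTheory.Limits AlgebraicGeometry

namespace K703.Basic

theorem isNoetherian (k : Type u) [Field k] (X : Scheme.{u})
    [X.Over (Spec (CommRingCat.of k))] [IsProper (X ↘ (Spec (CommRingCat.of k)))] : IsNoetherian X :=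
  { __ := LocallyOfFiniteType.isLocallyNoetherian (X ↘ (Spec (CommRingCat.of k)))
    __ := QuasiCompact.compactSpace_of_compactSpace (X ↘ (Spec (CommRingCat.of k))) }

theorem isFinLocFree_of_rank {X : Scheme.{u}} {n : ℕ} {E : X.Modules} (hE : FlatMod.IsFinLocFreeOfRank n E) :
    FlatMod.IsFinLocFree E := fun x => by
  obtain ⟨U, hx, e⟩ := hE x
  exact ⟨U, n, hx, e⟩

theorem isCoh_of_rank {X : Scheme.{u}} {n : ℕ} {E : X.Modules} (hE : FlatMod.IsFinLocFreeOfRank n E) :
    Coh.IsCoh E :=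
  Groth.Agent.PerfA.CohSerre.isCoh_of_isFinLocFree (isFinLocFree_of_rank hE)

theorem isCoh_of_inv {X : Scheme.{u}} {L : X.Modules} (hL : PicF.IsInvertible L) : Coh.IsCoh L :=
  Groth.Agent.VarietyA.CurveFin.isCoh_of_isInvertible hL

theorem isZero_restrict {X : Scheme.{u}} {M : X.Modules} (h : IsZero M) (U : X.Opens) :
    IsZero (M.restrict U.ι) := by
  rw [IsZero.iff_id_eq_zero] at h ⊢
  have := congrArg (Scheme.Modules.restrictFunctor U.ι).map h
  rw [Functor.map_zero, CategoryTheory.Functor.map_id] at this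
  exact this

theorem not_isZero_structure (X : Scheme.{u}) [Nonempty X] : ¬ IsZero (Coh.structureModule X) := by
  intro h2
  rw [IsZero.iff_id_eq_zero] at h2
  have h3 := congrArg (fun f : Coh.structureModule X ⟶ Coh.structureModule X => f.app ⊤ (1 : Γ(X, ⊤))) h2
  have h4 : (1 : Γ(X, ⊤)) = 0 := h3
  have : Nonempty (⊤ : X.Opens) := ⟨⟨Classical.arbitrary X, trivial⟩⟩
  have h5 : Nontrivial Γ(X, ⊤) := inferInstance
  exact one_ne_zero h4

theorem not_isZero_of_rank {X : Scheme.{u}} [Nonempty X] {n : ℕ} (hn : 0 < n) {E : X.Modules}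
    (hE : FlatMod.IsFinLocFreeOfRank n E) : ¬ IsZero E := by
  intro h
  obtain ⟨x⟩ := ‹Nonempty X›
  obtain ⟨U, hx, ⟨e⟩⟩ := hE x
  have h1 : IsZero (FlatMod.freeMod (U : Scheme.{u}) n) := (isZero_restrict h U).of_iso e.symm
  have : Nonempty (U : Scheme.{u}) := ⟨⟨x, hx⟩⟩
  apply not_isZero_structure (U : Scheme.{u})
  exact IsZero.of_mono (Sigma.ι (fun _ : Fin n => Coh.structureModule (U : Scheme.{u})) ⟨0, hn⟩) h1

theorem not_isZero_of_inv {X : Scheme.{u}} [Nonempty X] {L : X.Modules} (hL : PicF.IsInvertible L) :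
    ¬ IsZero L := by
  intro h
  obtain ⟨x⟩ := ‹Nonempty X›
  obtain ⟨U, hx, ⟨e⟩⟩ := hL x
  have : Nonempty (U : Scheme.{u}) := ⟨⟨x, hx⟩⟩
  exact not_isZero_structure (U : Scheme.{u}) ((isZero_restrict h U).of_iso e.symm)

section

variable (k : Type u) [Field k] {X : Scheme.{u}} [X.Over (Spec (CommRingCat.of k))]

theorem deg_congr {E F : X.Modules} (e : E ≅ F) (n : ℕ) : Curv2.deg k X E n = Curv2.deg k X F n := by
  unfold Curv2.deg
  rw [Groth.Agent.VarietyA.EulerAdd.euler_congr k e]

variable [IsProper (X ↘ (Spec (CommRingCat.of k)))]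

/-- degrees are additive in short exact sequences of coherent modules (outer terms coherent) -/
theorem deg_add {S : ShortComplex X.Modules} (hS : S.ShortExact) (h₁ : Coh.IsCoh S.X₁) (h₃ : Coh.IsCoh S.X₃)
    (n₁ n₃ : ℕ) : Curv2.deg k X S.X₂ (n₁ + n₃) = Curv2.deg k X S.X₁ n₁ + Curv2.deg k X S.X₃ n₃ := by
  have hN := isNoetherian k X
  have h := Groth.Agent.S1524.result k X S hS h₁ (Groth.Agent.CycB.CohProp.isCoh_extension S hS h₁ h₃) h₃
  unfold Curv2.deg
  rw [h]
  push_cast
  ring

theorem shortExact_cokernel {A B : X.Modules} (i : A ⟶ B) [Mono i] :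
    (ShortComplex.mk i (cokernel.π i) (cokernel.condition i)).ShortExact :=
  { exact := ShortComplex.exact_of_g_is_cokernel _ (cokernelIsCokernel i) }

theorem shortExact_kernel {A B : X.Modules} (p : A ⟶ B) [Epi p] :
    (ShortComplex.mk (kernel.ι p) p (kernel.condition p)).ShortExact :=
  { exact := ShortComplex.exact_of_f_is_kernel _ (kernelIsKernel p) }

end

section Line

variable (k : Type u) [Field k] {X : Scheme.{u}} [X.Over (Spec (CommRingCat.of k))]
  [IsIntegral X] [IsProper (X ↘ (Spec (CommRingCat.of k)))]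

/-- a map of invertible modules that goes down in degree is zero -/
theorem hom_eq_zero (hdim : topologicalKrullDim X = 1) {N L : X.Modules} (hN : PicF.IsInvertible N)
    (hL : PicF.IsInvertible L) (h : Curv2.deg k X L 1 < Curv2.deg k X N 1) (φ : N ⟶ L) : φ = 0 := by
  by_contra hφ
  exact absurd (Groth.Agent.S1521.result k X hdim N L hN hL φ hφ).1 (not_le.2 h)

theorem isIso_of_deg (hdim : topologicalKrullDim X = 1) {N L : X.Modules} (hN : PicF.IsInvertible N)
    (hL : PicF.IsInvertible L) (h : Curv2.deg k X L 1 ≤ Curv2.deg k X N 1) (φ : N ⟶ L) (hφ : φ ≠ 0) : IsIso φ :=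
  have h1 := Groth.Agent.S1521.result k X hdim N L hN hL φ hφ
  h1.2 (le_antisymm h1.1 h)

theorem deg_le (hdim : topologicalKrullDim X = 1) {N L : X.Modules} (hN : PicF.IsInvertible N)
    (hL : PicF.IsInvertible L) (φ : N ⟶ L) (hφ : φ ≠ 0) : Curv2.deg k X N 1 ≤ Curv2.deg k X L 1 :=
  (Groth.Agent.S1521.result k X hdim N L hN hL φ hφ).1

end Line

end K703.Basic
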