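import Groth.Agent.LoccohA.TDRep
import Groth.Agent.VarietyB.DualCoh502
import Groth.Agent.CurvesC.DualInvNodal
import Groth.Agent.CurvesC.DualSetup
import Groth.Agent.CurvesB.CurveRR
import Groth.Agent.CurvesB.UnitCoh
import Groth.Agent.VarietyA.CurveFin

/-!
# Serre duality on a smooth proper curve, in the form used for vector bundles

`X` integral, proper and smooth over a field `k`, of dimension one.  There is an invertible module `w` with a trace
`t : H^1(X, w) → k` such that `φ ↦ t ∘ H^1(φ)` is a bijection `Hom(F, w) → H^1(X, F)^*` for every quasi-coherent `F`.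
-/

set_option autoImplicit false
universe u
open CategoryTheory CategoryTheory.Limits AlgebraicGeometry Opposite TopologicalSpace

namespace K703.Duality

open Groth.Agent.CurvesC

/-- A smooth scheme over a field is (trivially) at worst nodal. -/
theorem atWorstNodal (k : Type u) [Field k] (X : Scheme.{u}) [X.Over (Spec (CommRingCat.of k))]
    [Smooth (X ↘ Spec (CommRingCat.of k))] : Curv2.AtWorstNodal k X := fun _ _ =>
  Or.inl ⟨⊤, trivial, inferInstance⟩

theorem equi (X : Scheme.{u}) [IrreducibleSpace X] (hdim : topologicalKrullDim X = 1) :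
    ∀ Z ∈ irreducibleComponents (X : Type u), topologicalKrullDim Z = 1 := by
  intro Z hZ
  rw [irreducibleComponents_eq_singleton, Set.mem_singleton_iff] at hZ
  subst hZ
  rw [← hdim]
  exact (Homeomorph.Set.univ (X : Type u)).isHomeomorph.topologicalKrullDim_eq

/-- `(w, t)` is an invertible dualizing pair (in degree one). -/
structure Dualizing (k : Type u) [Field k] (X : Scheme.{u}) [X.Over (Spec (CommRingCat.of k))] where
  /-- the dualizing module -/
  w : X.Modules
  /-- the trace -/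
  t : HV X w 1 →ₗ[k] k
  inv : PicF.IsInvertible w
  dual : IsDual w t

variable (k : Type u) [Field k] (X : Scheme.{u}) [X.Over (Spec (CommRingCat.of k))]

/-- **Serre duality on a smooth curve**: an invertible dualizing module. -/
theorem nonempty_dualizing [IsIntegral X] [IsProper (X ↘ Spec (CommRingCat.of k))]
    [Smooth (X ↘ Spec (CommRingCat.of k))] (hdim : topologicalKrullDim X = 1) : Nonempty (Dualizing k X) := by
  have hN : IsNoetherian X := Groth.Agent.CurvesB.CurveRR.isNoetherian_of_proper k X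
  obtain ⟨w, t, hw, h⟩ := Groth.Agent.LoccohA.TDRep.exists_repr k k X 1 (by exact_mod_cast hdim.le)
  have hd := isDual_of_raw h
  have hc : Coh.IsCoh w := Groth.Agent.VarietyB.DualCoh.isCoh k hdim.le hd hw
  exact ⟨⟨w, _, DualInvNodal.isInvertible (equi X hdim) (atWorstNodal k X) hd hc, hd⟩⟩

namespace Dualizing

variable {k X} (D : Dualizing k X)

theorem isQCoh : Coh.IsQCoh D.w := (Groth.Agent.VarietyA.CurveFin.isCoh_of_isInvertible D.inv).1

/-- the trace on the unsealed cohomology -/
noncomputable def t' : Coh.HH X D.w 1 →ₗ[k] k := D.t ∘ₗ (HV.equiv k D.w 1).symm.toLinearMap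

theorem isPair : DualCount.IsPair k D.t' := by
  intro F hF ψ
  obtain ⟨φ, hφ, huniq⟩ := D.dual F hF (ψ ∘ₗ (HV.equiv k F 1).toLinearMap)
  have key : ∀ (φ' : F ⟶ D.w) (x : Coh.HH X F 1),
      (HV.equiv k D.w 1).symm (Sheaf.H.map ((SheafOfModules.toSheaf X.ringCatSheaf).map φ') 1 x) =
        HV.map k φ' 1 ((HV.equiv k F 1).symm x) := by
    intro φ' x
    rw [LinearEquiv.symm_apply_eq, HV.equiv_map, LinearEquiv.apply_symm_apply]
  refine ⟨φ, fun x => ?_, fun φ' hφ' => huniq φ' ?_⟩
  · have h1 := LinearMap.congr_fun hφ ((HV.equiv k F 1).symm x)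
    simp only [LinearMap.comp_apply, LinearEquiv.coe_coe, LinearEquiv.apply_symm_apply, t'] at h1 ⊢
    rw [key, h1]
  · ext y
    have h1 := hφ' (HV.equiv k F 1 y)
    simp only [LinearMap.comp_apply, LinearEquiv.coe_coe, t'] at h1 ⊢
    rw [h1, key, LinearEquiv.symm_apply_apply]

/-- If `H^1(F) ≠ 0` there is a nonzero map `F → w`. -/
theorem exists_ne_zero {F : X.Modules} (hF : Coh.IsQCoh F) (h1 : ¬ Subsingleton (Coh.HH X F 1)) :
    ∃ φ : F ⟶ D.w, φ ≠ 0 := by
  by_contra hcon
  push Not at hcon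
  apply h1
  have h2 : ∀ ψ : HV X F 1 →ₗ[k] k, ψ = 0 := fun ψ => by
    obtain ⟨φ, hφ⟩ := (D.dual.bijective hF).2 ψ
    rw [← hφ, hcon φ]
    dsimp only
    rw [HV.map_zero, LinearMap.comp_zero]
  have h3 : ∀ x : HV X F 1, x = 0 := fun x => by
    by_contra hx
    obtain ⟨ψ, hψ⟩ := Module.Projective.exists_dual_ne_zero k hx
    exact hψ (by rw [h2 ψ]; rfl)
  exact ⟨fun a b => (h3 a).trans (h3 b).symm⟩

/-- If every map `F → w` is zero then `H^1(F) = 0`. -/
theorem subsingleton_h1 {F : X.Modules} (hF : Coh.IsQCoh F) (h : ∀ φ : F ⟶ D.w, φ = 0) :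
    Subsingleton (Coh.HH X F 1) := by
  by_contra h1
  obtain ⟨φ, hφ⟩ := D.exists_ne_zero hF h1
  exact hφ (h φ)

/-- If `H^1(F) = 0` every map `F → w` is zero. -/
theorem eq_zero {F : X.Modules} (hF : Coh.IsQCoh F) (h1 : Subsingleton (Coh.HH X F 1)) (φ : F ⟶ D.w) : φ = 0 :=
  D.dual.eq_zero hF h1 φ

/-- `h^0(w) = h^1(O)` -/
theorem h0_w : Module.finrank k (Coh.HH X D.w 0) = Curv2.genus k X :=
  DualSetup.h0_w D.isPair (Groth.Agent.CurvesB.UnitCoh.isCoh_structureModule X).1

/-- `h^1(w) = h^0(O)` -/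
theorem h1_w : Module.finrank k (Coh.HH X D.w 1) = Module.finrank k (Coh.HH X (Coh.structureModule X) 0) :=
  (DualSetup.h0_unit D.inv D.isPair D.isQCoh).symm

/-- `deg w = 2 g - 2`, if `H^0(O) = k`. -/
theorem deg_w [IsProper (X ↘ Spec (CommRingCat.of k))] (hdim : topologicalKrullDim X = 1)
    (h0 : Module.finrank k (Coh.HH X (Coh.structureModule X) 0) = 1) :
    Curv2.deg k X D.w 1 = 2 * (Curv2.genus k X : ℤ) - 2 := by
  have hN : IsNoetherian X := Groth.Agent.CurvesB.CurveRR.isNoetherian_of_proper k X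
  rw [Groth.Agent.CurvesB.CurveRR.deg_eq k X hdim.le, D.h0_w, D.h1_w, h0]
  push_cast
  ring

/-- `deg w = 2 g - 2` over an algebraically closed field. -/
theorem deg_w_of_isAlgClosed [IsAlgClosed k] [IsIntegral X] [IsProper (X ↘ Spec (CommRingCat.of k))]
    (hdim : topologicalKrullDim X = 1) : Curv2.deg k X D.w 1 = 2 * (Curv2.genus k X : ℤ) - 2 :=
  D.deg_w hdim (Groth.Agent.VarietyA.CurveFin.finrank_h0_structure k X)

end Dualizing

end K703.Duality
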