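import Mathlib.CategoryTheory.Linear.Basic
import Mathlib.CategoryTheory.Abelian.Basic
import Mathlib.RingTheory.IntegralClosure.Algebra.Basic
import Mathlib.RingTheory.Polynomial.Basic
import Mathlib.FieldTheory.Minpoly.Field
import Mathlib.FieldTheory.IsAlgClosed.Spectrum

/-!
# Finite-dimensional endomorphism algebras without idempotents are local
-/

set_option autoImplicit false
open CategoryTheory CategoryTheory.Limits Polynomial

namespace K703.EndLocal

theorem isUnit_or_isNilpotent {k R : Type*} [Field k] [Ring R] [Algebra k R] [Module.Finite k R]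
    (h : ∀ e : R, e * e = e → e = 0 ∨ e = 1) (f : R) : IsUnit f ∨ IsNilpotent f := by
  have hint : IsIntegral k f := Algebra.IsIntegral.isIntegral f
  set p : k[X] := X * minpoly k f with hp
  have hp0 : p ≠ 0 := mul_ne_zero X_ne_zero (minpoly.ne_zero hint)
  have hpf : aeval f p = 0 := by rw [hp, map_mul, minpoly.aeval, mul_zero]
  obtain ⟨q, hq, hnd⟩ := exists_eq_pow_rootMultiplicity_mul_and_not_dvd p hp0 0
  rw [C_0, sub_zero] at hq hnd
  generalize p.rootMultiplicity 0 = m at hq
  have hm : m ≠ 0 := by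
    rintro rfl
    rw [pow_zero, one_mul] at hq
    exact hnd (hq ▸ hp ▸ dvd_mul_right _ _)
  have hcop : IsCoprime ((X : k[X]) ^ m) q :=
    IsCoprime.pow_left ((irreducible_X (R := k)).coprime_iff_not_dvd.2 hnd)
  obtain ⟨a, b, hab⟩ := hcop
  have h1 : aeval f (a * X ^ m) + aeval f (b * q) = 1 := by rw [← map_add, hab, map_one]
  have h2 : aeval f (a * X ^ m) * aeval f (b * q) = 0 := by
    rw [← map_mul, show a * X ^ m * (b * q) = a * b * (X ^ m * q) by ring, ← hq, map_mul, hpf, mul_zero]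
  have h3 : aeval f (a * X ^ m) * aeval f (a * X ^ m) = aeval f (a * X ^ m) := by
    have := congrArg (fun y => aeval f (a * X ^ m) * y) h1
    simp only [mul_add, h2, add_zero, mul_one] at this
    exact this
  rcases h _ h3 with h4 | h4
  · right
    refine ⟨m, ?_⟩
    rw [h4, zero_add] at h1
    have h5 : f ^ m * aeval f (b * q) = 0 := by
      have : f ^ m = aeval f (X ^ m : k[X]) := by simp
      rw [this, ← map_mul, show (X ^ m : k[X]) * (b * q) = b * (X ^ m * q) by ring, ← hq, map_mul, hpf, mul_zero]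
    rwa [h1, mul_one] at h5
  · left
    obtain ⟨n, rfl⟩ := Nat.exists_eq_succ_of_ne_zero hm
    have hX : aeval f (X : k[X]) = f := aeval_X f
    have h5 : aeval f (a * X ^ n) * aeval f (X : k[X]) = 1 := by
      rw [← map_mul, mul_assoc, ← pow_succ]
      exact h4
    have h6 : aeval f (X : k[X]) * aeval f (a * X ^ n) = 1 := by
      rw [← map_mul, show (X : k[X]) * (a * X ^ n) = a * (X ^ n * X) by ring, ← pow_succ]
      exact h4
    rw [hX] at h5 h6
    exact ⟨⟨f, _, h6, h5⟩, rfl⟩

theorem isUnit_of_add {k R : Type*} [Field k] [Ring R] [Algebra k R] [Module.Finite k R]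
    (h : ∀ e : R, e * e = e → e = 0 ∨ e = 1) (f g : R) (hu : IsUnit (f + g)) : IsUnit f ∨ IsUnit g := by
  obtain ⟨u, hu⟩ := hu
  rcases isUnit_or_isNilpotent (k := k) h ((↑u⁻¹ : R) * f) with h1 | h1
  · left
    have := u.isUnit.mul h1
    rwa [Units.mul_inv_cancel_left] at this
  · right
    have h2 : (↑u⁻¹ : R) * g = 1 - (↑u⁻¹ : R) * f := by
      rw [eq_sub_iff_add_eq, ← mul_add, add_comm g f, ← hu, Units.inv_mul]
    have h3 : IsUnit ((↑u⁻¹ : R) * g) := by
      rw [h2]
      exact h1.isUnit_one_sub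
    have := u.isUnit.mul h3
    rwa [Units.mul_inv_cancel_left] at this

/-- over an algebraically closed field every endomorphism has an eigenvalue: `f - c` is not a unit -/
theorem exists_eigenvalue {k R : Type*} [Field k] [IsAlgClosed k] [Ring R] [Nontrivial R] [Algebra k R]
    [Module.Finite k R] (f : R) : ∃ c : k, ¬ IsUnit (f - algebraMap k R c) := by
  obtain ⟨c, hc⟩ := spectrum.nonempty_of_isAlgClosed_of_finiteDimensional k f
  refine ⟨c, fun h => hc ?_⟩
  have := h.neg
  rwa [neg_sub] at this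

section Cat

variable {C : Type*} [Category C] [Abelian C]

/-- A decomposable object has a nontrivial idempotent; an indecomposable one has none. -/
theorem idempotent_of_indecomposable {E : C}
    (h : ∀ (E₁ E₂ : C), Nonempty (E ≅ E₁ ⊞ E₂) → IsZero E₁ ∨ IsZero E₂) (e : E ⟶ E) (he : e ≫ e = e) :
    e = 0 ∨ e = 𝟙 E := by
  have hz : (𝟙 E - e) ≫ e = 0 := by rw [Preadditive.sub_comp, Category.id_comp, he, sub_self]
  have hz' : e ≫ (𝟙 E - e) = 0 := by rw [Preadditive.comp_sub, Category.comp_id, he, sub_self]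
  -- `E = image e ⊕ image (1 - e)`, written as `kernel (1 - e) ⊞ kernel e`
  let a : kernel (𝟙 E - e) ⟶ E := kernel.ι _
  let b : kernel e ⟶ E := kernel.ι _
  let p : E ⟶ kernel (𝟙 E - e) := kernel.lift _ e hz'
  let q : E ⟶ kernel e := kernel.lift _ (𝟙 E - e) hz
  have hpa : p ≫ a = e := kernel.lift_ι _ _ _
  have hqb : q ≫ b = 𝟙 E - e := kernel.lift_ι _ _ _
  have hae : a ≫ e = a := by
    have : a ≫ (𝟙 E - e) = 0 := kernel.condition _
    rw [Preadditive.comp_sub, Category.comp_id, sub_eq_zero] at this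
    exact this.symm
  have hbe : b ≫ e = 0 := kernel.condition _
  have hap : a ≫ p = 𝟙 _ := by
    rw [← cancel_mono a, Category.assoc, hpa, hae, Category.id_comp]
  have hbq : b ≫ q = 𝟙 _ := by
    rw [← cancel_mono b, Category.assoc, hqb, Preadditive.comp_sub, hbe, sub_zero, Category.comp_id, Category.id_comp]
  have haq : a ≫ q = 0 := by
    rw [← cancel_mono b, Category.assoc, hqb, Preadditive.comp_sub, hae, Category.comp_id, sub_self, Limits.zero_comp]
  have hbp : b ≫ p = 0 := by
    rw [← cancel_mono a, Category.assoc, hpa, hbe, Limits.zero_comp]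
  let i : E ≅ kernel (𝟙 E - e) ⊞ kernel e :=
    { hom := biprod.lift p q
      inv := biprod.desc a b
      hom_inv_id := by rw [biprod.lift_desc, hpa, hqb, add_sub_cancel]
      inv_hom_id := by
        apply biprod.hom_ext'
        · apply biprod.hom_ext <;> simp [hap, haq]
        · apply biprod.hom_ext <;> simp [hbq, hbp] }
  rcases h _ _ ⟨i⟩ with h1 | h1
  · left
    rw [← hpa, h1.eq_of_tgt p 0, Limits.zero_comp]
  · right
    have : 𝟙 E - e = 0 := by rw [← hqb, h1.eq_of_tgt q 0, Limits.zero_comp]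
    exact (sub_eq_zero.1 this).symm

variable {k : Type*} [Field k] [Linear k C]

theorem isIso_of_add {E : C} [Module.Finite k (E ⟶ E)]
    (h : ∀ (E₁ E₂ : C), Nonempty (E ≅ E₁ ⊞ E₂) → IsZero E₁ ∨ IsZero E₂) (f g : E ⟶ E) (hfg : IsIso (f + g)) :
    IsIso f ∨ IsIso g := by
  have hfin : Module.Finite k (End E) := ‹Module.Finite k (E ⟶ E)›
  rw [← isUnit_iff_isIso, ← isUnit_iff_isIso]
  refine isUnit_of_add (k := k) (R := End E) (fun e he => idempotent_of_indecomposable h e he) f g ?_
  exact (isUnit_iff_isIso (f + g)).2 hfg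

/-- over an algebraically closed field every endomorphism of a nonzero Hom-finite object has an eigenvalue -/
theorem exists_not_isIso_sub [IsAlgClosed k] {E : C} [Module.Finite k (E ⟶ E)] (h0 : ¬ IsZero E) (f : E ⟶ E) :
    ∃ c : k, ¬ IsIso (f - c • 𝟙 E) := by
  have hfin : Module.Finite k (End E) := ‹Module.Finite k (E ⟶ E)›
  have hnt : Nontrivial (End E) := ⟨⟨0, 1, fun h => h0 ((IsZero.iff_id_eq_zero E).2 h.symm)⟩⟩
  obtain ⟨c, hc⟩ := exists_eigenvalue (k := k) (R := End E) f
  refine ⟨c, fun h => hc ?_⟩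
  exact (isUnit_iff_isIso (f - c • 𝟙 E)).2 h

theorem indecomposable_of_isIso {E : C} (_ : ¬ IsZero E)
    (h : ∀ f g : E ⟶ E, IsIso (f + g) → IsIso f ∨ IsIso g) :
    ∀ (E₁ E₂ : C), Nonempty (E ≅ E₁ ⊞ E₂) → IsZero E₁ ∨ IsZero E₂ := by
  rintro E₁ E₂ ⟨i⟩
  let f : E ⟶ E := i.hom ≫ biprod.fst ≫ biprod.inl ≫ i.inv
  let g : E ⟶ E := i.hom ≫ biprod.snd ≫ biprod.inr ≫ i.inv
  have hfg : f + g = 𝟙 E := by
    have : f + g = i.hom ≫ (biprod.fst ≫ biprod.inl + biprod.snd ≫ biprod.inr) ≫ i.inv := by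
      simp only [f, g, Preadditive.comp_add, Preadditive.add_comp, Category.assoc]
    rw [this, biprod.total, Category.id_comp, i.hom_inv_id]
  rcases h f g (by rw [hfg]; infer_instance) with h1 | h1
  · right
    have h2 : biprod.inr ≫ i.inv ≫ f = 0 := by simp [f]
    have h3 : biprod.inr ≫ i.inv = 0 := by
      rw [← cancel_mono f, Category.assoc, h2, Limits.zero_comp]
    rw [IsZero.iff_id_eq_zero, ← biprod.inr_snd (X := E₁) (Y := E₂), ← Category.id_comp biprod.snd,
      ← i.inv_hom_id, ← Category.assoc, ← Category.assoc, h3, Limits.zero_comp, Limits.zero_comp]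
  · left
    have h2 : biprod.inl ≫ i.inv ≫ g = 0 := by simp [g]
    have h3 : biprod.inl ≫ i.inv = 0 := by
      rw [← cancel_mono g, Category.assoc, h2, Limits.zero_comp]
    rw [IsZero.iff_id_eq_zero, ← biprod.inl_fst (X := E₁) (Y := E₂), ← Category.id_comp biprod.fst,
      ← i.inv_hom_id, ← Category.assoc, ← Category.assoc, h3, Limits.zero_comp, Limits.zero_comp]

end Cat

end K703.EndLocal
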