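import Groth.Prelude.Def_KLin
import Groth.Agent.ASBun.K792.HomFin

/-!
# Homs between coherent modules on a proper scheme are finite, for the linear structure of `KLin`
-/

set_option autoImplicit false
universe u
open CategoryTheory CategoryTheory.Limits AlgebraicGeometry

namespace K703.HomFin

variable (A : Type u) [CommRing A] {X : Scheme.{u}} [X.Over (Spec (CommRingCat.of A))]

theorem smulMod_comm {M N : X.Modules} (a : A) (f : M ⟶ N) :
    Formal.smulMod A M a ≫ f = f ≫ Formal.smulMod A N a := (KLin.comp_smulModΓ f _).symm

theorem homModule_eq (M N : X.Modules) :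
    (Groth.Agent.CurvesC.LinMod.linearModules A X).homModule M N = KLin.homModule A X M N := by
  apply Module.ext'
  intro a f
  exact (smulMod_comm A a f).symm

theorem finite_hom [IsNoetherianRing A] [IsProper (X ↘ Spec (CommRingCat.of A))]
    (M N : X.Modules) (hM : Coh.IsCoh M) (hN : Coh.IsCoh N) : Module.Finite A (M ⟶ N) := by
  have h := K792.HomFin.finite_hom A M N hM hN
  rw [homModule_eq] at h
  exact h

end K703.HomFin
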