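import Mathlib.Algebra.Homology.ShortComplex.ShortExact
import Mathlib.CategoryTheory.Abelian.Basic

/-!
# Pushing out a short exact sequence (abstract abelian categories)
-/

set_option autoImplicit false
universe v u
open CategoryTheory CategoryTheory.Limits

namespace K703.Push

variable {A : Type u} [Category.{v} A] [Abelian A]

/-- The pushout of a short exact sequence along a map from its sub. -/
theorem exists_pushout {S : ShortComplex A} (hS : S.ShortExact) {w : A} (φ : S.X₁ ⟶ w) :
    ∃ (W : A) (i : w ⟶ W) (j : S.X₂ ⟶ W) (g : W ⟶ S.X₃) (h : i ≫ g = 0),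
      (ShortComplex.mk i g h).ShortExact ∧ j ≫ g = S.g ∧ φ ≫ i = S.f ≫ j := by
  have := hS.mono_f
  have := hS.epi_g
  let g' : pushout φ S.f ⟶ S.X₃ := pushout.desc 0 S.g (by rw [comp_zero, S.zero])
  have hg'1 : pushout.inl φ S.f ≫ g' = 0 := pushout.inl_desc ..
  have hg'2 : pushout.inr φ S.f ≫ g' = S.g := pushout.inr_desc ..
  refine ⟨pushout φ S.f, pushout.inl φ S.f, pushout.inr φ S.f, g', hg'1, ?_, hg'2, pushout.condition⟩
  have hepi : Epi g' := by
    have : Epi (pushout.inr φ S.f ≫ g') := by rw [hg'2]; infer_instance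
    exact epi_of_epi (pushout.inr φ S.f) g'
  refine { exact := ?_, mono_f := inferInstanceAs (Mono (pushout.inl φ S.f)), epi_g := hepi }
  apply ShortComplex.exact_of_g_is_cokernel
  refine CokernelCofork.IsColimit.ofπ' _ _ fun {Z} m hm => ?_
  have hm' : S.f ≫ pushout.inr φ S.f ≫ m = 0 := by
    rw [← pushout.condition_assoc]
    have : pushout.inl φ S.f ≫ m = 0 := hm
    rw [this, comp_zero]
  refine ⟨hS.exact.desc _ hm', ?_⟩
  apply pushout.hom_ext
  · change pushout.inl φ S.f ≫ g' ≫ _ = _
    rw [reassoc_of% hg'1, zero_comp]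
    exact hm.symm
  · change pushout.inr φ S.f ≫ g' ≫ _ = _
    rw [reassoc_of% hg'2]
    exact hS.exact.g_desc _ hm'

/-- The pullback of a short exact sequence along a map to its quotient. -/
theorem exists_pullback {S : ShortComplex A} (hS : S.ShortExact) {w : A} (φ : w ⟶ S.X₃) :
    ∃ (W : A) (i : S.X₁ ⟶ W) (j : W ⟶ S.X₂) (g : W ⟶ w) (h : i ≫ g = 0),
      (ShortComplex.mk i g h).ShortExact ∧ i ≫ j = S.f ∧ j ≫ S.g = g ≫ φ := by
  have := hS.mono_f
  have := hS.epi_g
  let f' : S.X₁ ⟶ pullback φ S.g := pullback.lift 0 S.f (by rw [zero_comp, S.zero])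
  have hf'1 : f' ≫ pullback.fst φ S.g = 0 := pullback.lift_fst ..
  have hf'2 : f' ≫ pullback.snd φ S.g = S.f := pullback.lift_snd ..
  refine ⟨pullback φ S.g, f', pullback.snd φ S.g, pullback.fst φ S.g, hf'1, ?_, hf'2, pullback.condition.symm⟩
  have hmono : Mono f' := by
    have : Mono (f' ≫ pullback.snd φ S.g) := by rw [hf'2]; infer_instance
    exact mono_of_mono f' (pullback.snd φ S.g)
  refine { exact := ?_, mono_f := hmono, epi_g := inferInstanceAs (Epi (pullback.fst φ S.g)) }
  apply ShortComplex.exact_of_f_is_kernel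
  refine KernelFork.IsLimit.ofι' _ _ fun {Z} m hm => ?_
  have hm' : (m ≫ pullback.snd φ S.g) ≫ S.g = 0 := by
    rw [Category.assoc, ← pullback.condition]
    have : m ≫ pullback.fst φ S.g = 0 := hm
    rw [reassoc_of% this, zero_comp]
  refine ⟨hS.exact.lift _ hm', ?_⟩
  apply pullback.hom_ext
  · change (_ ≫ f') ≫ pullback.fst φ S.g = _
    rw [Category.assoc, hf'1, comp_zero]
    exact hm.symm
  · change (_ ≫ f') ≫ pullback.snd φ S.g = _
    rw [Category.assoc, hf'2]
    exact hS.exact.lift_f _ hm'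

end K703.Push
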