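import Groth.Agent.VBCurve.K703.Stab
import Groth.Agent.VBCurve.K703.Basic
import Groth.Agent.VBCurve.K703.Push
import Groth.Agent.VBCurve.K703.Duality
import Groth.Agent.VBCurve.K703.HomFin
import Groth.Agent.VBCurve.K703.EndLocal
import Groth.Agent.VBCurve.K708.PtTwist
import Groth.Agent.CohqB.TwistMono
import Groth.Agent.Sga67.QCohEpi

/-!
# Global generation on a smooth proper curve over an algebraically closed field

* `exists_length_one`: a nonzero torsion module has a quotient of length one;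
* `exists_quot_length_one`: every nonzero coherent module has a quotient of length one;
* `isGloballyGenerated_of`: `E` is globally generated if it has no nonzero map to an invertible module of degree
  at most `deg w + 1`, `w` dualizing.
-/

set_option autoImplicit false
set_option linter.unusedSectionVars false
universe u
open CategoryTheory CategoryTheory.Limits AlgebraicGeometry TopologicalSpace Opposite

namespace K703.GlobGen

open Groth.Agent Groth.Agent.VarietyA.DegRank K707.Base K707.Deg K707.Slope K707.Semi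
open Groth.Agent.Fdesc

section sec

variable {X : Scheme.{u}}

/-- The kernel of an epimorphic section `s` is killed by every section. -/
theorem kernel_comp_eq_zero {T : X.Modules} (hT : Coh.IsQCoh T) (s t : Coh.structureModule X ⟶ T) [Epi s] :
    kernel.ι s ≫ t = 0 := by
  apply Scheme.Modules.hom_ext
  intro U
  ext a
  change t.app U ((kernel.ι s).app U a) = 0
  have h1 : s.app U ((kernel.ι s).app U a) = 0 := congr(($(kernel.condition s)).app U a)
  obtain ⟨b, hb⟩ := (LocGen.ofFun (X := X) (U := U)).surjective ((kernel.ι s).app U a)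
  rw [← hb] at h1 ⊢
  refine Ega1.SubSheaf.section_ext T _ _ fun q hq => ?_
  obtain ⟨V, hV, hqV, hVU⟩ := (Opens.isBasis_iff_nbhd.mp X.isBasis_affineOpens) hq
  refine ⟨V, hVU, hqV, ?_⟩
  obtain ⟨c, hc⟩ := Sga67.QCohEpi.app_surjective s (CurvesB.UnitCoh.isCoh_structureModule X).1 hT hV
    (LocGen.sec t V)
  obtain ⟨c, rfl⟩ := (LocGen.ofFun (X := X) (U := V)).surjective c
  have h2 : LocGen.res T hVU (s.app U (LocGen.ofFun b)) = 0 := by rw [h1, map_zero]
  rw [← LocGen.app_res, LocGen.res_ofFun, LocGen.app_ofFun] at h2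
  change LocGen.res T hVU (t.app U (LocGen.ofFun b)) = LocGen.res T hVU 0
  rw [map_zero, ← LocGen.app_res, LocGen.res_ofFun, LocGen.app_ofFun, ← hc, LocGen.app_ofFun, smul_smul, mul_comm,
    ← smul_smul, h2, smul_zero]

/-- A quotient of a finite free module is globally generated. -/
theorem isGloballyGenerated_of_epi_freeMod {M : X.Modules} {N : ℕ} (p : FlatMod.freeMod X N ⟶ M)
    [Epi p] : Curv2.IsGloballyGenerated M := by
  let e : (∐ fun _ : ULift.{u} (Fin N) => Coh.structureModule X) ≅ FlatMod.freeMod X N :=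
    Sigma.whiskerEquiv (C := X.Modules) (f := fun _ : ULift.{u} (Fin N) => Coh.structureModule X)
      (g := fun _ : Fin N => Coh.structureModule X) Equiv.ulift (fun _ => Iso.refl _)
  exact ⟨ULift (Fin N), e.hom ≫ p, epi_comp e.hom p⟩

/-- Two sections, the first one epimorphic, differ by an endomorphism. -/
theorem exists_endo {T : X.Modules} (hT : Coh.IsQCoh T) (s t : Coh.structureModule X ⟶ T) [Epi s] :
    ∃ f : T ⟶ T, s ≫ f = t := by
  have hS := Basic.shortExact_kernel s
  have := hS.epi_g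
  exact ⟨hS.exact.desc t (kernel_comp_eq_zero hT s t), hS.exact.g_desc t (kernel_comp_eq_zero hT s t)⟩

end sec

variable {k : Type u} [Field k] {X : Scheme.{u}} [X.Over (Spec (CommRingCat.of k))] [IsIntegral X]
  [IsProper (X ↘ (Spec (CommRingCat.of k)))]

theorem coh_O : Coh.IsCoh (Coh.structureModule X) := CurvesB.UnitCoh.isCoh_structureModule X

theorem dg_pos_of_torsion (C : Crv k X) {T : X.Modules} (hT : Coh.IsCoh T) (h0 : rk T = 0) (hz : ¬ IsZero T) :
    0 < dg k T := by
  by_contra h
  exact hz (isZero_of_dg_le_zero k C.dim hT (subsingleton_of_rk_eq_zero hT h0) (by omega))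

theorem h0_of_torsion (C : Crv k X) {T : X.Modules} (hT : Coh.IsCoh T) (h0 : rk T = 0) :
    (Module.finrank k (Coh.HH X T 0) : ℤ) = dg k T := by
  have htor := subsingleton_of_rk_eq_zero hT h0
  rw [dg_eq_euler_of_torsion k htor, euler_of_torsion k C.dim hT htor]

/-- An epimorphic endomorphism of a torsion module is an isomorphism. -/
theorem isIso_of_epi (C : Crv k X) {T : X.Modules} (hT : Coh.IsCoh T) (h0 : rk T = 0) (f : T ⟶ T) [Epi f] :
    IsIso f := by
  obtain ⟨e1, e2⟩ := epi_numbers C f hT hT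
  have hK := isZero_of_dg_le_zero k C.dim (coh_kernel C f hT hT)
    (subsingleton_of_rk_eq_zero (coh_kernel C f hT hT) (by omega)) (by omega)
  have : Mono f := Preadditive.mono_of_isZero_kernel f hK
  exact isIso_of_mono_of_epi f

variable [IsAlgClosed k]

/-- A torsion module of length at least two has a nonzero section which does not generate it. -/
theorem exists_not_epi (C : Crv k X) {T : X.Modules} (hT : Coh.IsCoh T) (h0 : rk T = 0) (h2 : 2 ≤ dg k T) :
    ∃ s : Coh.structureModule X ⟶ T, s ≠ 0 ∧ ¬ Epi s := by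
  by_contra hcon
  push Not at hcon
  have e1 := h0_of_torsion C hT h0
  have hz : ¬ IsZero T := fun h => by
    have := dg_of_isZero (k := k) h
    omega
  have hnt : Nontrivial (Coh.HH X T 0) := by
    by_contra h
    rw [not_nontrivial_iff_subsingleton] at h
    have : Module.finrank k (Coh.HH X T 0) = 0 := Module.finrank_zero_of_subsingleton
    omega
  obtain ⟨v, hv⟩ := exists_ne (0 : Coh.HH X T 0)
  have hsec : ∀ w, LocGen.sec (LocGen.homOf (CurvesB.HZero.equivAdd T w)) ⊤ = CurvesB.HZero.equivAdd T w := by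
    intro w
    rw [LocGen.sec_homOf, LocGen.res_refl]
  set s := LocGen.homOf (CurvesB.HZero.equivAdd T v) with hsdef
  have hs : s ≠ 0 := by
    intro h
    apply hv
    apply (CurvesB.HZero.equivAdd T).injective
    rw [← hsec v, ← hsdef, h, map_zero]
    rfl
  have hse : Epi s := hcon s hs
  have hfin : Module.Finite k (T ⟶ T) := HomFin.finite_hom k T T hT hT
  have hle : Module.finrank k (Coh.HH X T 0) ≤ 1 := by
    refine finrank_le_one v fun w => ?_
    obtain ⟨f, hf⟩ := exists_endo hT.1 s (LocGen.homOf (CurvesB.HZero.equivAdd T w))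
    obtain ⟨c, hc⟩ := EndLocal.exists_not_isIso_sub (k := k) hz f
    have h3 : s ≫ (f - c • 𝟙 T) = 0 := by
      by_contra h4
      have h5 := hcon _ h4
      have h6 : Epi (f - c • 𝟙 T) := epi_of_epi s _
      exact hc (isIso_of_epi C hT h0 _)
    rw [Preadditive.comp_sub, sub_eq_zero, hf, Linear.comp_smul, Category.comp_id] at h3
    refine ⟨c, ?_⟩
    apply (CurvesB.HZero.equivAdd T).injective
    rw [← hsec w, h3, CurvesB.HZero.equivAdd_smul_over, ← hsec v, ← hsdef]
    unfold LocGen.sec
    have h6 : X.presheaf.map (homOfLE (le_top : (⊤ : X.Opens) ≤ ⊤)).op (Coh.toGlobal (X ↘ Spec (CommRingCat.of k)) c) =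
        Coh.toGlobal (X ↘ Spec (CommRingCat.of k)) c := by
      have : (homOfLE (le_top : (⊤ : X.Opens) ≤ ⊤)).op = 𝟙 _ := rfl
      rw [this, X.presheaf.map_id]
      rfl
    rw [KLin.smul_app_apply, h6]
    rfl
  omega

/-- A nonzero torsion module has a quotient of length one. -/
theorem exists_length_one (C : Crv k X) (n : ℕ) : ∀ {T : X.Modules}, Coh.IsCoh T → rk T = 0 → ¬ IsZero T →
    dg k T ≤ n → ∃ (T' : X.Modules) (p : T ⟶ T'), Epi p ∧ Coh.IsCoh T' ∧ rk T' = 0 ∧ dg k T' = 1 := by
  induction n with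
  | zero =>
    intro T hT h0 hz hn
    have := dg_pos_of_torsion C hT h0 hz
    push_cast at hn
    omega
  | succ n ih =>
    intro T hT h0 hz hn
    have hpos := dg_pos_of_torsion C hT h0 hz
    by_cases h1 : dg k T = 1
    · exact ⟨T, 𝟙 T, inferInstance, hT, h0, h1⟩
    obtain ⟨s, hs, hse⟩ := exists_not_epi C hT h0 (by omega)
    obtain ⟨I, p, i, hp, hi, hpi, hI, e1, e2, e3, e4⟩ := exists_factor C s coh_O hT
    have hI0 : ¬ IsZero I := fun h => hs (by rw [← hpi, h.eq_of_tgt p 0, zero_comp])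
    have hIpos := dg_pos_of_torsion C hI (by omega) hI0
    have hQ := coh_cokernel s coh_O hT
    have hQ0 : ¬ IsZero (cokernel s) := fun h => hse (Preadditive.epi_of_isZero_cokernel s h)
    push_cast at hn
    obtain ⟨T', p', hp', a, b, c⟩ := ih hQ (by omega) hQ0 (by omega)
    exact ⟨T', cokernel.π s ≫ p', epi_comp _ _, a, b, c⟩

/-- A nonzero coherent module has a nonzero torsion quotient. -/
theorem exists_torsion_quot (C : Crv k X) {Q : X.Modules} (hQ : Coh.IsCoh Q) (hz : ¬ IsZero Q) :
    ∃ (T : X.Modules) (p : Q ⟶ T), Epi p ∧ Coh.IsCoh T ∧ rk T = 0 ∧ ¬ IsZero T := by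
  by_cases h0 : rk Q = 0
  · exact ⟨Q, 𝟙 Q, inferInstance, hQ, h0, hz⟩
  have hN := isNoetherian k (X := X)
  obtain ⟨T, V, t, p, w, hS, hT, hV, hT0, htf⟩ := exists_torsion hQ
  have hp : Epi p := hS.epi_g
  have hVv := vb_of_torsionFree C hV htf
  have hVr := isFinLocFreeOfRank_rk hVv
  have e1 := rk_add' k _ hS hQ
  replace e1 : rk Q = rk T + rk V := e1
  have hT0' := rk_eq_zero_of_subsingleton hT0
  have hO : PicF.IsInvertible (Coh.structureModule X) := Stab.inv_iff.1 _root_.K708.SSH0.rank_structureModule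
  obtain ⟨x, hx⟩ := _root_.K708.PtTwist.exists_closedPoint k (X := X)
  have h1 := _root_.K708.PtTwist.invertible_vanish C hO hx
  have h2 := _root_.K708.PtTwist.dg_vanish_lt C hO hx
  rw [_root_.K708.SSH0.dg_structureModule] at h2
  let ι := (VarietyA.TwistDown.vanish (Coh.structureModule X) x).ι
  have hS'' := VarietyB.ExactLoc.tensor_shortExact (VarietyB.ExactLoc.hasBasis_of_isFinLocFreeOfRank hVr) _
    (cokernel_shortExact ι)
  have hc1 : Coh.IsCoh ((DCoh.tensorBi.obj V).obj (VarietyA.TwistDown.vanish (Coh.structureModule X) x).toModules) := by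
    rw [tensorBi_obj]
    exact VarietyA.LocFreeTens.isCoh_tensor hVr (Basic.isCoh_of_inv h1)
  have hc2 : Coh.IsCoh ((DCoh.tensorBi.obj V).obj (Coh.structureModule X)) := by
    rw [tensorBi_obj]
    exact VarietyA.LocFreeTens.isCoh_tensor hVr coh_O
  have hc3 : Coh.IsCoh ((DCoh.tensorBi.obj V).obj (cokernel ι)) := by
    rw [tensorBi_obj]
    exact VarietyA.LocFreeTens.isCoh_tensor hVr (coh_cokernel _ (Basic.isCoh_of_inv h1) coh_O)
  have e2 := rk_add' k _ hS'' hc2
  have e3 := dg_add k _ hS'' hc1 hc2 hc3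
  replace e2 : rk ((DCoh.tensorBi.obj V).obj (Coh.structureModule X)) =
    rk ((DCoh.tensorBi.obj V).obj (VarietyA.TwistDown.vanish (Coh.structureModule X) x).toModules) +
      rk ((DCoh.tensorBi.obj V).obj (cokernel ι)) := e2
  replace e3 : dg k ((DCoh.tensorBi.obj V).obj (Coh.structureModule X)) =
    dg k ((DCoh.tensorBi.obj V).obj (VarietyA.TwistDown.vanish (Coh.structureModule X) x).toModules) +
      dg k ((DCoh.tensorBi.obj V).obj (cokernel ι)) := e3
  let e4 : (DCoh.tensorBi.obj V).obj (Coh.structureModule X) ≅ V := Ega2.Tens.runit V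
  rw [rk_iso e4, tensorBi_obj _ (VarietyA.TwistDown.vanish (Coh.structureModule X) x).toModules,
    _root_.K707.TensL.rk_tensor (Stab.inv_iff.2 h1) hV, one_mul] at e2
  rw [dg_iso k e4, tensorBi_obj _ (VarietyA.TwistDown.vanish (Coh.structureModule X) x).toModules,
    _root_.K707.TensL.dg_tensor k C.dim (Stab.inv_iff.2 h1) hV, Nat.cast_one, one_mul] at e3
  have he : Epi ((DCoh.tensorBi.obj V).map (cokernel.π ι)) := hS''.epi_g
  have he2 : Epi (e4.inv ≫ (DCoh.tensorBi.obj V).map (cokernel.π ι)) := epi_comp _ _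
  refine ⟨(DCoh.tensorBi.obj V).obj (cokernel ι), p ≫ e4.inv ≫ (DCoh.tensorBi.obj V).map (cokernel.π ι),
    epi_comp _ _, hc3, Nat.add_eq_left.1 e2.symm, fun h => ?_⟩
  rw [dg_of_isZero (k := k) h] at e3
  have e8 : (rk V : ℤ) * dg k (VarietyA.TwistDown.vanish (Coh.structureModule X) x).toModules = 0 := by
    linarith
  rcases mul_eq_zero.1 e8 with h3 | h3
  · have h5 : rk V = 0 := by exact_mod_cast h3
    rw [hT0', h5] at e1
    exact h0 e1
  · rw [h3] at h2
    exact lt_irrefl _ h2

/-- A nonzero coherent module has a quotient of length one. -/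
theorem exists_quot_length_one (C : Crv k X) {Q : X.Modules} (hQ : Coh.IsCoh Q) (hz : ¬ IsZero Q) :
    ∃ (T : X.Modules) (p : Q ⟶ T), Epi p ∧ Coh.IsCoh T ∧ rk T = 0 ∧ dg k T = 1 := by
  obtain ⟨T, p, hp, hT, h0, hz'⟩ := exists_torsion_quot C hQ hz
  obtain ⟨T', p', hp', a, b, c⟩ := exists_length_one C (dg k T).toNat hT h0 hz' (Int.self_le_toNat _)
  exact ⟨T', p ≫ p', epi_comp _ _, a, b, c⟩

/-- Either `E` is generated by a basis of its global sections, or there is a length one quotient `q : E ⟶ T` killing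
all global sections; then `H^1(kernel q) ≠ 0` so there is a nonzero map `kernel q ⟶ w`. -/
theorem epi_or_exists (C : Crv k X) (D : Duality.Dualizing k X) {E : X.Modules} (hE : Coh.IsCoh E) :
    (∃ ev : FlatMod.freeMod X (Module.finrank k (Coh.HH X E 0)) ⟶ E, Epi ev) ∨
    ∃ (T : X.Modules) (q : E ⟶ T), Epi q ∧ Coh.IsCoh T ∧ rk T = 0 ∧ dg k T = 1 ∧
      ∃ φ : kernel q ⟶ D.w, φ ≠ 0 := by
  have hN := isNoetherian k (X := X)
  have hfin : Module.Finite k (Coh.HH X E 0) := S0002.result k X E hE 0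
  let b := Module.finBasis k (Coh.HH X E 0)
  let s : Fin (Module.finrank k (Coh.HH X E 0)) → (Coh.structureModule X ⟶ E) := fun i =>
    LocGen.homOf (CurvesB.HZero.equivAdd E (b i))
  let ev : FlatMod.freeMod X (Module.finrank k (Coh.HH X E 0)) ⟶ E := Sigma.desc s
  by_cases hev : Epi ev
  · exact Or.inl ⟨ev, hev⟩
  right
  have hfree : Coh.IsCoh (FlatMod.freeMod X (Module.finrank k (Coh.HH X E 0))) := PerfA.CohSerre.isCoh_freeMod _
  have hQ := coh_cokernel ev hfree hE
  have hQ0 : ¬ IsZero (cokernel ev) := fun h => hev (Preadditive.epi_of_isZero_cokernel ev h)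
  obtain ⟨T, p, hp, hT, hT0, hT1⟩ := exists_quot_length_one C hQ hQ0
  let q : E ⟶ T := cokernel.π ev ≫ p
  have hq : Epi q := epi_comp _ _
  refine ⟨T, q, hq, hT, hT0, hT1, ?_⟩
  have hkill : ∀ w : Coh.HH X E 0, q.app ⊤ (CurvesB.HZero.equivAdd E w) = 0 := by
    intro w
    have hw : w ∈ Submodule.span k (Set.range b) := by rw [b.span_eq]; trivial
    induction hw using Submodule.span_induction with
    | mem x hx =>
      obtain ⟨i, rfl⟩ := hx
      have h1 : s i ≫ q = 0 := by
        have : s i = Sigma.ι (fun _ => Coh.structureModule X) i ≫ ev := (Sigma.ι_desc _ _).symm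
        rw [this, Category.assoc, cokernel.condition_assoc, zero_comp, comp_zero]
      have h2 := congr(LocGen.sec $h1 ⊤)
      rw [LocGen.sec_comp, LocGen.sec_homOf, LocGen.res_refl] at h2
      exact h2
    | zero => rw [map_zero, map_zero]
    | add x y _ _ hx hy => rw [map_add, map_add, hx, hy, add_zero]
    | smul a x _ hx =>
      rw [CurvesB.HZero.equivAdd_smul_over, Scheme.Modules.Hom.app_smul, hx, smul_zero]
  have hK := coh_kernel C q hE hT
  have hSq := kernel_shortExact q
  apply D.exists_ne_zero hK.1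
  intro hsub
  have e1 := h0_of_torsion C hT hT0
  have hnt : Nontrivial (Coh.HH X T 0) := by
    by_contra h
    rw [not_nontrivial_iff_subsingleton] at h
    have : Module.finrank k (Coh.HH X T 0) = 0 := Module.finrank_zero_of_subsingleton
    omega
  obtain ⟨v, hv⟩ := exists_ne (0 : Coh.HH X T 0)
  obtain ⟨y, hy⟩ := CohqB.TwistMono.surjective_of_H1 hSq hsub (CurvesB.HZero.equivAdd T v)
  apply hv
  apply (CurvesB.HZero.equivAdd T).injective
  rw [← hy, map_zero]
  obtain ⟨y, rfl⟩ := (CurvesB.HZero.equivAdd E).surjective y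
  exact hkill y

/-- A map to an invertible module `w` from the kernel of a length one quotient of `E` extends to a map from `E` to
an invertible module of degree at most `deg w + 1`. -/
theorem exists_extend (C : Crv k X) {E w T : X.Modules} (hw : PicF.IsInvertible w) (hT : Coh.IsCoh T)
    (hT0 : rk T = 0) (hT1 : dg k T = 1) (q : E ⟶ T) [hq : Epi q] (φ : kernel q ⟶ w) (hφ : φ ≠ 0) :
    ∃ (L : X.Modules) (f : E ⟶ L), PicF.IsInvertible L ∧ dg k L ≤ dg k w + 1 ∧ f ≠ 0 := by
  have hN := isNoetherian k (X := X)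
  obtain ⟨W, i, j, g, h, hS, hj, hc⟩ := Push.exists_pushout (kernel_shortExact q) φ
  have hwc := Basic.isCoh_of_inv hw
  have hW : Coh.IsCoh W := CycB.CohProp.isCoh_extension _ hS hwc hT
  have e1 := rk_add' k _ hS hW
  replace e1 : rk W = rk w + rk T := e1
  have e2 := dg_add k _ hS hwc hW hT
  replace e2 : dg k W = dg k w + dg k T := e2
  obtain ⟨T₁, L, t₁, p₁, w₁, hS₁, hT₁, hL, hT₁0, htf⟩ := exists_torsion hW
  have hLv := vb_of_torsionFree C hL htf
  have e3 := rk_add' k _ hS₁ hW
  replace e3 : rk W = rk T₁ + rk L := e3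
  have e4 := dg_add k _ hS₁ hT₁ hW hL
  replace e4 : dg k W = dg k T₁ + dg k L := e4
  have e5 := rk_eq_zero_of_subsingleton hT₁0
  have e6 := dg_nonneg_of_torsion k C.dim hT₁ hT₁0
  have e7 := Stab.rk_of_inv hw
  have hi : Mono i := hS.mono_f
  have hL1 : PicF.IsInvertible L := by
    have h1 := isFinLocFreeOfRank_rk hLv
    have h2 : rk L = 1 := by omega
    rw [h2] at h1
    exact Stab.inv_iff.1 h1
  have hne : i ≫ p₁ ≠ 0 := by
    intro h0
    have := hS₁.mono_f
    have h1 : hS₁.exact.lift i h0 ≫ t₁ = i := hS₁.exact.lift_f i h0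
    have h2 : Mono (hS₁.exact.lift i h0) := by
      have : Mono (hS₁.exact.lift i h0 ≫ t₁) := by rw [h1]; exact hi
      exact mono_of_mono _ t₁
    have h3 : rk w ≤ rk T₁ := rk_le_of_mono C (hS₁.exact.lift i h0) hwc hT₁
    omega
  have hmono2 : Mono (i ≫ p₁) := _root_.K708.SSH0.mono_of_rank_one C (Stab.inv_iff.2 hw) hLv _ hne
  refine ⟨L, j ≫ p₁, hL1, by omega, fun h' => hφ ?_⟩
  rw [← cancel_mono (i ≫ p₁), zero_comp, reassoc_of% hc]
  rw [h', comp_zero]

/-- The criterion: no nonzero maps to invertible modules of degree `≤ deg w + 1`. -/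
theorem isGloballyGenerated_of (C : Crv k X) (D : Duality.Dualizing k X) {E : X.Modules} (hE : Coh.IsCoh E)
    (h : ∀ L : X.Modules, PicF.IsInvertible L → dg k L ≤ dg k D.w + 1 → ∀ f : E ⟶ L, f = 0) :
    Curv2.IsGloballyGenerated E := by
  rcases epi_or_exists C D hE with ⟨ev, hev⟩ | ⟨T, q, hq, hT, hT0, hT1, φ, hφ⟩
  · exact isGloballyGenerated_of_epi_freeMod ev
  · obtain ⟨L, f, hL, hd, hf⟩ := exists_extend C D.inv hT hT0 hT1 q φ hφ
    exact absurd (h L hL hd f) hf

end K703.GlobGen
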