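import Groth.Agent.VBCurve.K703.Stab
import Groth.Agent.VBCurve.K704.Base
import Groth.Agent.VBCurve.K708.PtTwist

/-!
# Twisting by invertible modules: semistability, stability; invertible modules of every degree
-/

set_option autoImplicit false
set_option linter.unusedSectionVars false
universe u
open CategoryTheory CategoryTheory.Limits AlgebraicGeometry

namespace K703.TwSS

open Groth.Agent Groth.Agent.VarietyA.DegRank K707.Base K707.Deg K707.Slope K707.Semi K707.TensL

variable {k : Type u} [Field k] {X : Scheme.{u}} [X.Over (Spec (CommRingCat.of k))] [IsIntegral X]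
  [IsProper (X ↘ (Spec (CommRingCat.of k)))]

/-- `(E ⊗ N) ⊗ P ≅ E` if `N ⊗ P ≅ O`. -/
noncomputable def twIso {N P : X.Modules} (e : CohB1.tensorMod N P ≅ Coh.structureModule X) (E : X.Modules) :
    (T P).obj ((T N).obj E) ≅ E := (PerfB.TensInv.tensorInvIso e).app E

theorem mono_map {N : X.Modules} (hN : PicF.IsInvertible N) {F G : X.Modules} (i : F ⟶ G) [Mono i] :
    Mono ((T N).map i) := by
  have := preservesFiniteLimits (Stab.vb_of_inv hN)
  infer_instance

/-- rank and degree of a twist -/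
theorem rk_twist {N : X.Modules} (hN : PicF.IsInvertible N) {E : X.Modules} (hE : Coh.IsCoh E) :
    rk ((T N).obj E) = rk E := by
  rw [T_obj, rk_tensor (Stab.inv_iff.2 hN) hE, one_mul]

theorem dg_twist (C : Crv k X) {N : X.Modules} (hN : PicF.IsInvertible N) {E : X.Modules} (hE : Coh.IsCoh E) :
    dg k ((T N).obj E) = dg k E + rk E * dg k N := by
  rw [T_obj, dg_tensor k C.dim (Stab.inv_iff.2 hN) hE, Nat.cast_one, one_mul]

theorem vb_twist (C : Crv k X) {N : X.Modules} (hN : PicF.IsInvertible N) {E : X.Modules}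
    (hE : FlatMod.IsFinLocFree E) : FlatMod.IsFinLocFree ((T N).obj E) := by
  have hLN := isLocNoeth C
  rw [T_obj]
  exact vb_tensor hE (Stab.vb_of_inv hN)

theorem rank_twist (C : Crv k X) {N : X.Modules} (hN : PicF.IsInvertible N) {E : X.Modules} {r : ℕ}
    (hE : FlatMod.IsFinLocFreeOfRank r E) : FlatMod.IsFinLocFreeOfRank r ((T N).obj E) := by
  have h1 := isFinLocFreeOfRank_rk (vb_twist C hN (isFinLocFree_of_rank hE))
  rwa [rk_twist hN (coh_of_vb (isFinLocFree_of_rank hE)), rk_of_rank hE] at h1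

theorem inv_twist (C : Crv k X) {N : X.Modules} (hN : PicF.IsInvertible N) {E : X.Modules}
    (hE : PicF.IsInvertible E) : PicF.IsInvertible ((T N).obj E) :=
  Stab.inv_iff.1 (rank_twist C hN (Stab.inv_iff.2 hE))

/-- Twisting a submodule of `E ⊗ N` back to a submodule of `E`. -/
theorem exists_mono (C : Crv k X) {N E G : X.Modules} (hN : PicF.IsInvertible N) (hG : FlatMod.IsFinLocFree G)
    (i : G ⟶ (T N).obj E) [Mono i] :
    ∃ (G' : X.Modules) (j : G' ⟶ E), Mono j ∧ FlatMod.IsFinLocFree G' ∧ rk G' = rk G ∧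
      dg k G' = dg k G - rk G * dg k N := by
  obtain ⟨P, hP, ⟨e⟩, -, hd⟩ := _root_.K708.PtTwist.exists_inv C hN
  have hm := mono_map hP i
  refine ⟨(T P).obj G, (T P).map i ≫ (twIso e E).hom, mono_comp _ _, vb_twist C hP hG,
    rk_twist hP (coh_of_vb hG), ?_⟩
  rw [dg_twist C hP (coh_of_vb hG), hd]
  ring

theorem ss_twist (C : Crv k X) {N E : X.Modules} (hN : PicF.IsInvertible N) (hE : Coh.IsCoh E) (h : SS k E) :
    SS k ((T N).obj E) := by
  intro G i hi hG
  obtain ⟨G', j, hj, hG', h1, h2⟩ := exists_mono C hN hG i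
  have h3 := h G' j hj hG'
  rw [rk_twist hN hE, dg_twist C hN hE]
  rw [h1, h2] at h3
  linarith

theorem st_twist (C : Crv k X) {N E : X.Modules} (hN : PicF.IsInvertible N) (hE : Coh.IsCoh E) (h : St k E) :
    St k ((T N).obj E) := by
  intro G i hi hG h0 h00
  obtain ⟨G', j, hj, hG', h1, h2⟩ := exists_mono C hN hG i
  rw [rk_twist hN hE] at h00
  have h3 := h G' j hj hG' (by rw [h1]; exact h0) (by rw [h1]; exact h00)
  rw [rk_twist hN hE, dg_twist C hN hE]
  rw [h1, h2] at h3
  linarith

/-- Invertible modules of every degree. -/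
theorem exists_inv_dg [IsAlgClosed k] (C : Crv k X) (n : ℤ) : ∃ N : X.Modules, PicF.IsInvertible N ∧ dg k N = n := by
  obtain ⟨A, hA, hd⟩ := _root_.K704.Base.exists_deg_nat k X C.dim n.natAbs
  rw [← Stab.dg_of_inv hA] at hd
  rcases le_total 0 n with h | h
  · exact ⟨A, hA, by omega⟩
  · obtain ⟨B, hB, -, -, hd'⟩ := _root_.K708.PtTwist.exists_inv C hA
    exact ⟨B, hB, by omega⟩

end K703.TwSS
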