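import Groth.Prelude.Def_KLin
import Groth.Agent.CurvesC.DualSetup
import Groth.Agent.VarietyA.CurveFin
import Groth.Agent.CurvesB.HZero

/-!
# Scalars acting on modules of a scheme over a field

* `map_smul_id`: the map of abelian sheaves underlying `c • 𝟙 E` is `Coh.smulAb`.
* `end_scalar`: endomorphisms of an invertible module on an integral proper scheme over an algebraically closed
  field are scalars.
-/

set_option autoImplicit false
universe u
open CategoryTheory CategoryTheory.Limits AlgebraicGeometry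

namespace K703.Scalar

variable {k : Type u} [Field k] {X : Scheme.{u}} [X.Over (Spec (CommRingCat.of k))]

theorem map_smul_id (E : X.Modules) (c : k) :
    (SheafOfModules.toSheaf X.ringCatSheaf).map (c • 𝟙 E) =
      Coh.smulAb E (Coh.toGlobal (X ↘ Spec (CommRingCat.of k)) c) := by
  rw [KLin.smul_id]
  rfl

theorem smulAb_eq_iff {E : X.Modules} {φ : E ⟶ E} {c : k} :
    (SheafOfModules.toSheaf X.ringCatSheaf).map φ =
      Coh.smulAb E (Coh.toGlobal (X ↘ Spec (CommRingCat.of k)) c) ↔ φ = c • 𝟙 E := by
  rw [← map_smul_id]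
  exact (SheafOfModules.toSheaf X.ringCatSheaf).map_injective.eq_iff

/-- Endomorphisms of an invertible module are scalars. -/
theorem end_scalar_of_h0 (h0 : Module.finrank k (Coh.HH X (Coh.structureModule X) 0) = 1) {L : X.Modules}
    (hL : PicF.IsInvertible L) (f : L ⟶ L) : ∃ c : k, f = c • 𝟙 L := by
  obtain ⟨a, ha⟩ := Groth.Agent.CurvesC.DualSetup.exists_eq_smul hL f
  obtain ⟨c, hc⟩ := Groth.Agent.CurvesB.HZero.exists_const k h0 a
  refine ⟨c, Scheme.Modules.hom_ext _ _ fun U => ?_⟩
  ext m
  rw [KLin.smul_app_apply]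
  refine (ha U m).trans ?_
  rw [← hc]
  rfl

theorem end_scalar [IsAlgClosed k] [IsIntegral X] [IsProper (X ↘ Spec (CommRingCat.of k))] {L : X.Modules}
    (hL : PicF.IsInvertible L) (f : L ⟶ L) : ∃ c : k, f = c • 𝟙 L :=
  end_scalar_of_h0 (Groth.Agent.VarietyA.CurveFin.finrank_h0_structure k X) hL f

end K703.Scalar
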