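import Groth.Agent.VBCurve.K707.Semi
import Groth.Agent.Ega2.QCohLocal

/-!
# Stable and semistable modules: maps to invertible modules, maps between semistable modules of equal slope
-/

set_option autoImplicit false
universe u
open CategoryTheory CategoryTheory.Limits AlgebraicGeometry

namespace K703.Stab

open Groth.Agent.VarietyA.DegRank K707.Base K707.Deg K707.Slope K707.Semi

variable {k : Type u} [Field k] {X : Scheme.{u}} [X.Over (Spec (CommRingCat.of k))]

theorem inv_iff {L : X.Modules} : FlatMod.IsFinLocFreeOfRank 1 L ↔ PicF.IsInvertible L :=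
  Groth.Agent.Ega2.QCohLocal.isFinLocFreeOfRank_one_iff

theorem vb_of_inv {L : X.Modules} (hL : PicF.IsInvertible L) : FlatMod.IsFinLocFree L :=
  isFinLocFree_of_rank (inv_iff.2 hL)

variable [IsIntegral X]

theorem rk_of_inv {L : X.Modules} (hL : PicF.IsInvertible L) : rk L = 1 := rk_of_rank (inv_iff.2 hL)

theorem dg_of_inv {L : X.Modules} (hL : PicF.IsInvertible L) : dg k L = Curv2.deg k X L 1 :=
  dg_of_rank k (inv_iff.2 hL)

variable [IsProper (X ↘ (Spec (CommRingCat.of k)))]

theorem ss_of_inv (C : Crv k X) {L : X.Modules} (hL : PicF.IsInvertible L) : SS k L := by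
  refine St.ss C (vb_of_inv hL) fun F i _ _ h0 h1 => ?_
  rw [rk_of_inv hL] at h1
  omega

/-- A nonzero map from a semistable module to an invertible one. -/
theorem slope_le_of_hom (C : Crv k X) {E L : X.Modules} (hE : SS k E) (hEv : FlatMod.IsFinLocFree E)
    (hL : PicF.IsInvertible L) (f : E ⟶ L) (hf : f ≠ 0) : dg k E ≤ dg k L * rk E := by
  have := hE.slope_le C hEv (ss_of_inv C hL) (vb_of_inv hL) f hf
  rwa [rk_of_inv hL, Nat.cast_one, mul_one] at this

/-- A nonzero map from a stable module of rank at least two to an invertible one. -/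
theorem slope_lt_of_hom (C : Crv k X) {E L : X.Modules} (hE : St k E) (hEv : FlatMod.IsFinLocFree E)
    (hr : 2 ≤ rk E) (hL : PicF.IsInvertible L) (f : E ⟶ L) (hf : f ≠ 0) : dg k E < dg k L * rk E := by
  obtain ⟨I, p, i, hp, hi, hpi, hI, hpos, e1, e2, e3, e4⟩ :=
    exists_factor_pos C f hf (coh_of_vb hEv) (vb_of_inv hL)
  rw [rk_of_inv hL] at e3
  have hI1 : rk I = 1 := by omega
  have h1 := hE.quot C hEv p (coh_of_vb hI) hpos (by omega)
  have h2 := dg_le_of_mono C i (coh_of_vb hI) (coh_of_vb (vb_of_inv hL)) (by rw [rk_of_inv hL]; omega)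
  rw [hI1, Nat.cast_one, mul_one] at h1
  exact h1.trans_le (mul_le_mul_of_nonneg_right h2 (by positivity))

/-- A nonzero map between semistable modules of the same rank and degree, one of them stable, is an isomorphism. -/
theorem isIso_of_ne_zero (C : Crv k X) {E F : X.Modules} (hE : SS k E) (hEv : FlatMod.IsFinLocFree E)
    (hF : SS k F) (hFv : FlatMod.IsFinLocFree F) (hr : rk E = rk F) (hd : dg k E = dg k F)
    (hst : St k E ∨ St k F) (f : E ⟶ F) (hf : f ≠ 0) : IsIso f := by
  obtain ⟨I, p, i, hp, hi, hpi, hI, hpos, e1, e2, e3, e4⟩ := exists_factor_pos C f hf (coh_of_vb hEv) hFv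
  have hIc := coh_of_vb hI
  have h1 := hE.quot C hEv p hIc
  have h2 := hF I i hi hI
  have hrI : rk I = rk F := by
    by_contra hne
    rcases hst with h | h
    · have := h.quot C hEv p hIc hpos (by omega)
      rw [hr, hd] at this
      omega
    · have := h I i hi hI hpos (by omega)
      rw [hr, hd] at h1
      omega
  have hrI' : rk E = rk I := by omega
  have hK0 : rk (kernel f) = 0 := by omega
  have hKv := vb_kernel C f hEv (coh_of_vb hFv)
  have hK : IsZero (kernel f) := isZero_of_rk_eq_zero C hKv hK0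
  have hKd : dg k (kernel f) = 0 := dg_of_isZero hK
  have : Mono f := Preadditive.mono_of_kernel_zero (hK.eq_of_src _ _)
  exact isIso_of_mono C f (coh_of_vb hEv) (coh_of_vb hFv) (by omega) (by omega)

end K703.Stab
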