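import Groth.Agent.CurvesB.CurveRR
import Groth.Agent.VarietyA.CurveFin

/-!
# Riemann–Roch for modules on a proper integral curve over an algebraically closed field
-/

set_option autoImplicit false
universe u
open CategoryTheory CategoryTheory.Limits AlgebraicGeometry

namespace K703.Chi

open Groth.Agent.CurvesB Groth.Agent.VarietyA

theorem deg_structure (k : Type u) [Field k] {X : Scheme.{u}} [X.Over (Spec (CommRingCat.of k))] :
    Curv2.deg k X (Coh.structureModule X) 1 = 0 := by
  unfold Curv2.deg
  push_cast
  ring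

section

variable (k : Type u) [Field k] {X : Scheme.{u}} [X.Over (Spec (CommRingCat.of k))]
  [IsProper (X ↘ (Spec (CommRingCat.of k)))]

theorem finite_H {F : X.Modules} (hF : Coh.IsCoh F) (n : ℕ) : Module.Finite k (Coh.HH X F n) :=
  Groth.Agent.S0002.result k X F hF n

theorem subsingleton_of_finrank {F : X.Modules} (hF : Coh.IsCoh F) {n : ℕ}
    (h : Module.finrank k (Coh.HH X F n) = 0) : Subsingleton (Coh.HH X F n) :=
  have := finite_H k hF n
  Module.finrank_zero_iff.1 h

end

variable (k : Type u) [Field k] [IsAlgClosed k] {X : Scheme.{u}} [X.Over (Spec (CommRingCat.of k))]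
  [IsIntegral X] [IsProper (X ↘ (Spec (CommRingCat.of k)))]

theorem euler_structure (hdim : topologicalKrullDim X = 1) :
    Curv2.euler k X (Coh.structureModule X) = 1 - (Curv2.genus k X : ℤ) := by
  have hN : IsNoetherian X := CurveRR.isNoetherian_of_proper k X
  rw [CurveRR.euler_eq k X hdim.le, CurveFin.finrank_h0_structure]
  rfl

/-- **Riemann–Roch**: `h^0(E) - h^1(E) = deg E + n (1 - g)`. -/
theorem rr (hdim : topologicalKrullDim X = 1) (E : X.Modules) (n : ℕ) :
    (Module.finrank k (Coh.HH X E 0) : ℤ) - (Module.finrank k (Coh.HH X E 1) : ℤ) =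
      Curv2.deg k X E n + n * (1 - (Curv2.genus k X : ℤ)) := by
  have hN : IsNoetherian X := CurveRR.isNoetherian_of_proper k X
  rw [← CurveRR.euler_eq k X hdim.le, ← euler_structure k hdim]
  unfold Curv2.deg
  ring

end K703.Chi
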