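import Groth.Agent.Flat2E.FormalLift418
import Groth.Agent.VBCurve.K707.Base
import Groth.Agent.Ega2.QCohLocal
import Groth.Agent.VBCurve.K703.Chi
import Groth.Agent.VBCurve.K703.Basic

/-!
# Twisting by invertible modules: degrees, maps and extensions

Inverses of invertible modules are pairs `M`, `P` with `M ⊗ P ≅ O`.
-/

set_option autoImplicit false
set_option linter.unusedSectionVars false
universe u
open CategoryTheory CategoryTheory.Limits AlgebraicGeometry

namespace K703.Twist

open Groth.Agent.Fdesc Groth.Agent.Flat2E.FormalLift418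

section

variable {X : Scheme.{u}} {M P : X.Modules}

/-- Maps `O → F` are zero iff `F` has no global sections. -/
theorem h0_eq_zero {F : X.Modules} (h : ∀ s : Coh.structureModule X ⟶ F, s = 0) : Subsingleton (Coh.HH X F 0) := by
  refine ⟨fun a b => (Groth.Agent.CurvesB.HZero.equivAdd F).injective ?_⟩
  have key : ∀ y : Γ(F, ⊤), y = 0 := fun y => by
    have h1 : LocGen.sec (LocGen.homOf y) ⊤ = 0 := by
      rw [h (LocGen.homOf y)]
      rfl
    rw [LocGen.sec_homOf, LocGen.res_refl] at h1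
    exact h1
  rw [key (Groth.Agent.CurvesB.HZero.equivAdd F a), key (Groth.Agent.CurvesB.HZero.equivAdd F b)]

/-- If `H^0(F) = 0` every map `O → F` is zero. -/
theorem eq_zero_of_h0 {F : X.Modules} (h : Subsingleton (Coh.HH X F 0)) (s : Coh.structureModule X ⟶ F) : s = 0 := by
  apply LocGen.hom_ext_sec
  apply (Groth.Agent.CurvesB.HZero.equivAdd F).symm.injective
  exact h.elim _ _

/-- `Hom(M, F) = 0` iff `H^0(F ⊗ P) = 0` where `M ⊗ P ≅ O`. -/
theorem h0_tensor_eq_zero (e : CohB1.tensorMod M P ≅ Coh.structureModule X) {F : X.Modules}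
    (h : ∀ φ : M ⟶ F, φ = 0) : Subsingleton (Coh.HH X (CohB1.tensorMod F P) 0) := by
  apply h0_eq_zero
  intro s
  have := full_tw e
  obtain ⟨t', ht'⟩ := (DCoh.tensorRightMod P).map_surjective
    (e.hom ≫ s : (DCoh.tensorRightMod P).obj M ⟶ (DCoh.tensorRightMod P).obj F)
  have h1 : (DCoh.tensorRightMod P).map t' = 0 := by
    rw [h t']
    exact (twEquiv e).functor.map_zero _ _
  rw [h1] at ht'
  rw [← cancel_epi e.hom, comp_zero]
  exact ht'.symm

/-- A short exact sequence splits if `H^1(S.X₁ ⊗ P) = 0` where `S.X₃ ⊗ P ≅ O`. -/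
theorem isSplitEpi {S : ShortComplex X.Modules} (hS : S.ShortExact) (hP : PicF.IsInvertible P)
    (e : CohB1.tensorMod S.X₃ P ≅ Coh.structureModule X)
    (h : Subsingleton (Coh.HH X (CohB1.tensorMod S.X₁ P) 1)) : IsSplitEpi S.g := by
  obtain ⟨s, hs⟩ := exists_lift hP e hS h (𝟙 S.X₃)
  exact ⟨⟨⟨s, hs⟩⟩⟩

theorem isCoh_tensor (hP : PicF.IsInvertible P) {F : X.Modules} (hF : Coh.IsCoh F) [IsNoetherian X] :
    Coh.IsCoh (CohB1.tensorMod F P) :=
  Groth.Agent.Ega2.GlobGenCrit.isCoh_tensor hF hP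

end

section

variable (k : Type u) [Field k] {X : Scheme.{u}} [X.Over (Spec (CommRingCat.of k))]
  [IsIntegral X] [IsProper (X ↘ (Spec (CommRingCat.of k)))] {P : X.Modules}

/-- `deg(F ⊗ P) = deg F + n deg P` for `F` locally free of rank `n`. -/
theorem deg_tensor (hdim : topologicalKrullDim X = 1) {n : ℕ} {F : X.Modules} (hF : FlatMod.IsFinLocFreeOfRank n F)
    (hP : PicF.IsInvertible P) :
    Curv2.deg k X (CohB1.tensorMod F P) n = Curv2.deg k X F n + n * Curv2.deg k X P 1 := by
  have h := Groth.Agent.VarietyA.DegRank.euler_tensor_curve k hdim.le n F hF P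
    (Groth.Agent.VarietyA.CurveFin.isCoh_of_isInvertible hP)
  have h1 : Groth.Agent.VarietyA.DegRank.rk P = 1 :=
    K707.Base.rk_of_rank (Groth.Agent.Ega2.QCohLocal.isFinLocFreeOfRank_one_iff.2 hP)
  rw [h1] at h
  unfold Curv2.deg at h ⊢
  rw [h]
  push_cast
  ring

/-- The degree of an inverse. -/
theorem deg_inv (hdim : topologicalKrullDim X = 1) {M : X.Modules} (hM : PicF.IsInvertible M)
    (hP : PicF.IsInvertible P) (e : CohB1.tensorMod M P ≅ Coh.structureModule X) :
    Curv2.deg k X P 1 = - Curv2.deg k X M 1 := by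
  have h := deg_tensor k hdim (Groth.Agent.Ega2.QCohLocal.isFinLocFreeOfRank_one_iff.2 hM) hP
  rw [Basic.deg_congr k e, Chi.deg_structure] at h
  push_cast at h
  linarith

end

end K703.Twist
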